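import Groth.Agent.PlaneTwistLib.Comap
import Groth.Agent.ProjCoh.PSData
import Mathlib.RingTheory.Smooth.Kaehler
import Mathlib.RingTheory.Kaehler.Basic
import Mathlib.Algebra.MvPolynomial.PDeriv
import Mathlib.AlgebraicGeometry.Morphisms.Smooth

/-!
# Plane twists: charts, points and smoothness of plane curves
-/

set_option autoImplicit false
set_option backward.isDefEq.respectTransparency false
set_option backward.isDefEq.respectTransparency.types false
set_option linter.style.haveILetI false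
set_option maxHeartbeats 800000

universe u

open CategoryTheory CategoryTheory.Limits AlgebraicGeometry TopologicalSpace Opposite MvPolynomial HomogeneousLocalization
open KaehlerDifferential

noncomputable section

namespace Groth.Agent.PlaneTwistLib

/-- A quotient by one element whose differential has a unit coefficient is formally smooth. -/
theorem formallySmooth_of_derivation {R P S : Type u} [CommRing R] [CommRing P] [CommRing S] [Algebra R P]
    [Algebra P S] [Algebra R S] [IsScalarTower R P S] [Algebra.FormallySmooth R P]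
    (hsurj : Function.Surjective (algebraMap P S)) (f : P) (hf : RingHom.ker (algebraMap P S) = Ideal.span {f})
    (δ : Derivation R P P) (hδ : δ f - 1 ∈ Ideal.span {f}) : Algebra.FormallySmooth R S := by
  classical
  set I := RingHom.ker (algebraMap P S) with hI
  have hfI : f ∈ I := hf ▸ Ideal.mem_span_singleton_self f
  have hann : ∀ a ∈ I, ∀ z : I.Cotangent, a • z = 0 := by
    intro a ha z
    obtain ⟨z, rfl⟩ := I.toCotangent_surjective z
    rw [← map_smul, Ideal.toCotangent_eq_zero, pow_two]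
    exact Ideal.mul_mem_mul ha z.2
  let cl : I.Cotangent := I.toCotangent ⟨f, hfI⟩
  let Ψ : Ω[P⁄R] →ₗ[P] I.Cotangent := (δ.liftKaehlerDifferential).smulRight cl
  have hΨ : Ψ (D R P f) = cl := by
    show δ.liftKaehlerDifferential (D R P f) • cl = cl
    rw [Derivation.liftKaehlerDifferential_comp_D, ← sub_eq_zero]
    exact (by rw [sub_smul, one_smul] : δ f • cl - cl = (δ f - 1) • cl).trans (hann _ (hf ▸ hδ) cl)
  have hΨI : ∀ x (hx : x ∈ I), Ψ (D R P x) = I.toCotangent ⟨x, hx⟩ := by
    intro x hx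
    obtain ⟨r, rfl⟩ := Ideal.mem_span_singleton'.1 (show x ∈ Ideal.span {f} from hf ▸ hx)
    rw [Derivation.leibniz, map_add, map_smul, map_smul, hΨ, hann f hfI, add_zero, ← map_smul]
    rfl
  let θ : (P ⧸ I) ≃ₐ[P] S := Ideal.quotientKerAlgEquivOfSurjective (f := Algebra.ofId P S) hsurj
  have hker : I • (⊤ : Submodule P Ω[P⁄R]) ≤ LinearMap.ker Ψ :=
    Submodule.smul_le.2 fun a ha z _ => by rw [LinearMap.mem_ker, map_smul, hann a ha]
  let l : TensorProduct P S Ω[P⁄R] →ₗ[P] I.Cotangent :=
    (Submodule.liftQ _ Ψ hker) ∘ₗ (TensorProduct.quotTensorEquivQuotSMul Ω[P⁄R] I).toLinearMap ∘ₗ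
      (TensorProduct.congr θ.toLinearEquiv.symm (LinearEquiv.refl P Ω[P⁄R])).toLinearMap
  refine (Algebra.FormallySmooth.iff_split_injection hsurj).2 ⟨l, ?_⟩
  refine LinearMap.ext fun z => ?_
  obtain ⟨⟨x, hx⟩, rfl⟩ := I.toCotangent_surjective z
  rw [LinearMap.comp_apply, kerCotangentToTensor_toCotangent, LinearMap.id_apply]
  show Submodule.liftQ _ Ψ hker (TensorProduct.quotTensorEquivQuotSMul Ω[P⁄R] I (θ.symm 1 ⊗ₜ[P] D R P x)) = _
  rw [map_one, TensorProduct.quotTensorEquivQuotSMul_mk_one_tmul, Submodule.liftQ_apply]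
  exact hΨI x hx

variable {n d : ℕ} {F : Type u} [Field F] (G : LefPen.Form n F d)

set_option quotPrecheck false
local notation "Hyp" => (LefPen.hypIdeal G).subscheme
local notation "ι₀" => (LefPen.hypIdeal G).subschemeι
local notation "strG" => (LefPen.hypIdeal G).subschemeι ≫ CohB1.ProjSpace.toSpec n F

/-- The chart of a hypersurface. -/
abbrev hypChart (i : Fin (n + 1)) : (Hyp).Opens := ι₀ ⁻¹ᵁ LefPen.chart n F i

/-- The equation in a chart. -/
def chartEqn (i : Fin (n + 1)) : MvPolynomial (Fin n) F := aeval (PicProjLib.dehomVec n F i) G.1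

theorem isAffineOpen_hypChart (i : Fin (n + 1)) : IsAffineOpen (hypChart G i) :=
  (isAffineOpen_chart F i).preimage ι₀

theorem chartEquiv_eqn (i : Fin (n + 1)) : PicProjLib.chartEquiv n F i (chartEqn G i) = LefPen.dehom G i := by
  have hGd : G.1 ∈ CohB1.polyGrading n F (d • 1) := by rw [smul_eq_mul, mul_one]; exact G.2
  have h : PicProjLib.awayToPoly n F i (Away.mk (CohB1.polyGrading n F) (ProjMap.X_mem i) d G.1 hGd) =
      chartEqn G i := by
    have h1 := ProjMap.evalAway_mk (A := MvPolynomial (Fin n) F) (v := PicProjLib.dehomVec n F i)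
      (ProjMap.X_mem i) (by simp) d G.1 hGd
    simpa [PicProjLib.awayToPoly, chartEqn, PicProjLib.dehomVec] using h1
  show Proj.awayToSection (CohB1.polyGrading n F) (X i) (PicProjLib.polyToAway n F i (chartEqn G i)) = _
  exact (congrArg _ ((congrArg (PicProjLib.polyToAway n F i) h.symm).trans
    (DFunLike.congr_fun (PicProjLib.polyToAway_comp n F i) _))).trans rfl

/-- The coordinate ring of a chart of a hypersurface. -/
theorem exists_chartMap (hG : G ≠ 0) (i : Fin (n + 1)) :
    ∃ π : MvPolynomial (Fin n) F →+* Γ(Hyp, hypChart G i), Function.Surjective π ∧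
      RingHom.ker π = Ideal.span {chartEqn G i} ∧
      ∀ r, π (C r) = (Hyp).presheaf.map (homOfLE (le_top : hypChart G i ≤ ⊤)).op (Coh.toGlobal strG r) := by
  have hU := isAffineOpen_chart (n := n) F i
  refine ⟨((ι₀).app (LefPen.chart n F i)).hom.comp (PicProjLib.chartEquiv n F i).toRingHom,
    ((ι₀).app_surjective _ hU).comp (PicProjLib.chartEquiv n F i).surjective, ?_, fun r => ?_⟩
  · rw [← RingHom.comap_ker, (LefPen.hypIdeal G).ker_subschemeι_app ⟨_, hU⟩, hypIdeal_chart G hG,
      ← chartEquiv_eqn G i]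
    ext p
    rw [Ideal.mem_comap, Ideal.mem_span_singleton, Ideal.mem_span_singleton]
    exact map_dvd_iff (PicProjLib.chartEquiv n F i)
  · show (ι₀).app _ (Proj.awayToSection (CohB1.polyGrading n F) (X i)
      (PicProjLib.polyToAway n F i (C r))) = _
    rw [show PicProjLib.polyToAway n F i (C r) =
      ProjCoh.awayConst (CohB1.polyGrading n F) (X i : MvPolynomial (Fin (n + 1)) F) r from eval₂Hom_C _ _ r,
      ← ProjCoh.φV_projφ (CohB1.polyGrading n F) (ProjMap.X_mem (R := F) i) one_pos r]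
    exact ConcreteCategory.congr_hom ((ι₀).naturality (homOfLE (le_top : LefPen.chart n F i ≤ ⊤)).op)
      (Coh.toGlobal (CohB1.ProjSpace.toSpec n F) r)

theorem fromSpec_comp {Y : Scheme.{u}} {R : Type u} [CommRing R] (f : Y ⟶ Spec (CommRingCat.of R)) {V : Y.Opens}
    (hV : IsAffineOpen V) :
    hV.fromSpec ≫ f = Spec.map (CommRingCat.ofHom
      ((Y.presheaf.map (homOfLE (le_top : V ≤ ⊤)).op).hom.comp (Coh.toGlobal f))) := by
  have h1 : f = Y.toSpecΓ ≫ Spec.map ((Scheme.ΓSpecIso (CommRingCat.of R)).inv ≫ f.appTop) := by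
    have h2 := Scheme.toSpecΓ_naturality f
    rw [Spec.map_comp, ← Category.assoc, ← h2]
    simp
  conv_lhs => rw [h1]
  rw [IsAffineOpen.fromSpec_toSpecΓ_assoc, ← Spec.map_comp]
  rfl

theorem iSup_hypChart : (⨆ i, hypChart G i) = ⊤ := by
  rw [← Scheme.Hom.preimage_iSup, iSup_chart, Scheme.Hom.preimage_top]

variable (hG : G ≠ 0)
include hG

/-- The Jacobian criterion for hypersurfaces. -/
theorem smooth_of_derivation
    (h : ∀ i, ∃ δ : Derivation F (MvPolynomial (Fin n) F) (MvPolynomial (Fin n) F),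
      δ (chartEqn G i) - 1 ∈ Ideal.span {chartEqn G i}) : Smooth strG := by
  refine (IsZariskiLocalAtSource.iff_of_iSup_eq_top (P := @Smooth) _ (iSup_hypChart G)).2 fun i => ?_
  have hV := isAffineOpen_hypChart G i
  rw [← hV.isoSpec_hom_fromSpec, Category.assoc, fromSpec_comp _ hV]
  refine (MorphismProperty.cancel_left_of_respectsIso @Smooth _ _).2 ?_
  refine (HasRingHomProperty.Spec_iff (P := @Smooth)).2 ?_
  obtain ⟨π, hπ, hker, hC⟩ := exists_chartMap G hG i
  rw [CommRingCat.hom_ofHom, show (((Hyp).presheaf.map (homOfLE (le_top : hypChart G i ≤ ⊤)).op).hom.comp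
    (Coh.toGlobal strG)) = π.comp (algebraMap F (MvPolynomial (Fin n) F)) from RingHom.ext fun r => (hC r).symm]
  letI : Algebra (MvPolynomial (Fin n) F) Γ(Hyp, hypChart G i) := π.toAlgebra
  letI : Algebra F Γ(Hyp, hypChart G i) := (π.comp (algebraMap F (MvPolynomial (Fin n) F))).toAlgebra
  haveI : IsScalarTower F (MvPolynomial (Fin n) F) Γ(Hyp, hypChart G i) := IsScalarTower.of_algebraMap_eq fun _ => rfl
  obtain ⟨δ, hδ⟩ := h i
  haveI : Algebra.FormallySmooth F Γ(Hyp, hypChart G i) :=
    formallySmooth_of_derivation (P := MvPolynomial (Fin n) F) hπ _ hker δ hδ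
  haveI : Algebra.FinitePresentation F Γ(Hyp, hypChart G i) :=
    Algebra.FinitePresentation.of_surjective (f := IsScalarTower.toAlgHom F (MvPolynomial (Fin n) F) Γ(Hyp, hypChart G i))
      hπ (by
        show (RingHom.ker π).FG
        rw [hker]; exact ⟨{chartEqn G i}, by simp⟩)
  exact RingHom.smooth_algebraMap.2 ⟨inferInstance, inferInstance⟩

omit hG in
theorem eval_chartEqn (i : Fin (n + 1)) (a : Fin n → F) :
    eval a (chartEqn G i) = eval (Fin.insertNth (α := fun _ => F) i 1 a) G.1 := by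
  show aeval a (aeval (PicProjLib.dehomVec n F i) G.1) = aeval _ G.1
  rw [← AlgHom.comp_apply, comp_aeval]
  congr 2
  funext j
  rcases Fin.eq_self_or_eq_succAbove i j with rfl | ⟨k, rfl⟩ <;> simp [PicProjLib.dehomVec]

/-- A zero gives a rational point. -/
theorem exists_section_of_zero (i : Fin (n + 1)) (a : Fin n → F)
    (ha : eval (Fin.insertNth (α := fun _ => F) i 1 a) G.1 = 0) :
    ∃ s : Spec (CommRingCat.of F) ⟶ Hyp, s ≫ strG = 𝟙 _ := by
  obtain ⟨π, hπ, hker, hC⟩ := exists_chartMap G hG i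
  have hV := isAffineOpen_hypChart G i
  have hle : RingHom.ker π ≤ RingHom.ker (eval a) := by
    rw [hker, Ideal.span_singleton_le_iff_mem, RingHom.mem_ker, eval_chartEqn, ha]
  let β : Γ(Hyp, hypChart G i) →+* F :=
    π.liftOfRightInverse _ (Function.rightInverse_surjInv hπ) ⟨eval a, hle⟩
  have hβ : ∀ p, β (π p) = eval a p :=
    π.liftOfRightInverse_comp_apply _ (Function.rightInverse_surjInv hπ) ⟨eval a, hle⟩
  refine ⟨Spec.map (CommRingCat.ofHom β) ≫ hV.fromSpec, ?_⟩
  rw [Category.assoc, fromSpec_comp _ hV, ← Spec.map_comp, ← Spec.map_id]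
  refine congrArg Spec.map (CommRingCat.hom_ext (RingHom.ext fun r => ?_))
  show β ((Hyp).presheaf.map (homOfLE le_top).op (Coh.toGlobal strG r)) = r
  rw [← hC, hβ, eval_C]

/-- A rational point gives a nonzero zero. -/
theorem exists_zero_of_section (s : Spec (CommRingCat.of F) ⟶ Hyp) (hs : s ≫ strG = 𝟙 _) :
    ∃ v : Fin (n + 1) → F, v ≠ 0 ∧ eval v G.1 = 0 := by
  obtain ⟨i, hi⟩ := Opens.mem_iSup.1 ((iSup_hypChart G).ge (Opens.mem_top (s.base (IsLocalRing.closedPoint F))))
  obtain ⟨π, hπ, hker, hC⟩ := exists_chartMap G hG i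
  have hle : (⊤ : (Spec (CommRingCat.of F)).Opens) ≤ s ⁻¹ᵁ hypChart G i := fun x _ => by
    show s.base x ∈ hypChart G i
    rw [Subsingleton.elim x (IsLocalRing.closedPoint F)]; exact hi
  let β : Γ(Hyp, hypChart G i) →+* F :=
    (Scheme.ΓSpecIso (CommRingCat.of F)).hom.hom.comp (s.appLE (hypChart G i) ⊤ hle).hom
  let a : Fin n → F := fun j => β (π (X j))
  have hev : ∀ p, β (π p) = eval a p := by
    refine DFunLike.congr_fun (MvPolynomial.ringHom_ext (f := β.comp π) (g := eval a) (fun r => ?_) fun j => by simp [a])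
    show β (π (C r)) = eval a (C r)
    rw [eval_C, hC]
    show (Scheme.ΓSpecIso (CommRingCat.of F)).hom (((Hyp).presheaf.map (homOfLE le_top).op ≫
      s.appLE (hypChart G i) ⊤ hle) (Coh.toGlobal strG r)) = r
    rw [Scheme.Hom.map_appLE]
    show (Scheme.ΓSpecIso (CommRingCat.of F)).hom (((strG).appTop ≫ s.appLE ⊤ ⊤ _)
      ((Scheme.ΓSpecIso (CommRingCat.of F)).inv r)) = r
    rw [show s.appLE ⊤ ⊤ _ = s.appTop from Scheme.Hom.appLE_eq_app s, ← Scheme.Hom.comp_appTop, hs]
    simp
  refine ⟨Fin.insertNth (α := fun _ => F) i 1 a, fun h => one_ne_zero (α := F) ?_, ?_⟩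
  · simpa using congrFun h i
  · rw [← eval_chartEqn, ← hev, show π (chartEqn G i) = 0 from
      RingHom.mem_ker.1 (hker ▸ Ideal.mem_span_singleton_self _), map_zero]

end Groth.Agent.PlaneTwistLib
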