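import Groth.Agent.HypSurfLib.Ideal
import Groth.Agent.GenSeesawLib.TwistBC
import Groth.Agent.IdealStalkLib.Comap
import Groth.Agent.PicProjLib.Chart

/-!
# Plane twists: pulling a hypersurface back along a diagonal semilinear substitution
-/

set_option autoImplicit false
set_option backward.isDefEq.respectTransparency false
set_option backward.isDefEq.respectTransparency.types false
set_option linter.style.haveILetI false
set_option maxHeartbeats 800000

universe u

open CategoryTheory CategoryTheory.Limits AlgebraicGeometry TopologicalSpace Opposite MvPolynomial HomogeneousLocalization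

noncomputable section

namespace Groth.Agent.PlaneTwistLib

variable {n d : ℕ} {K L : Type u} [Field K] [Field L] (φ : K →+* L) (w : Fin (n + 1) → Lˣ)

/-- The substitution `Tᵢ ↦ wᵢ Tᵢ` over `φ`. -/
def substHom : MvPolynomial (Fin (n + 1)) K →+* MvPolynomial (Fin (n + 1)) L :=
  eval₂Hom (C.comp φ) fun i => C (w i : L) * X i

theorem substHom_X (i : Fin (n + 1)) : substHom φ w (X i) = C (w i : L) * X i := eval₂Hom_X' _ _ i

theorem substHom_C (a : K) : substHom φ w (C a) = C (φ a) := eval₂Hom_C _ _ a

/-- The substitution as a graded map. -/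
def subst : CohB1.polyGrading n K →+*ᵍ CohB1.polyGrading n L :=
  { toRingHom := substHom φ w
    map_mem := fun {i} {x} hx => by
      have h := (hx : x.IsHomogeneous i).eval₂ ((C : L →+* MvPolynomial (Fin (n + 1)) L).comp φ)
        (fun i => C (w i : L) * X i) (fun r => isHomogeneous_C _ _) (fun i => (isHomogeneous_X L i).C_mul _)
      rw [one_mul] at h
      exact h }

/-- The substituted form. -/
def substForm (G : LefPen.Form n K d) : LefPen.Form n L d := ⟨subst φ w G.1, (subst φ w).map_mem G.2⟩

theorem irrelevant_le : HomogeneousIdeal.irrelevant (CohB1.polyGrading n L) ≤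
    (HomogeneousIdeal.irrelevant (CohB1.polyGrading n K)).map (subst φ w) := by
  show (HomogeneousIdeal.irrelevant (CohB1.polyGrading n L)).toIdeal ≤ _
  rw [ProjOverLib.irrelevant_eq_span, Ideal.span_le]
  rintro _ ⟨j, rfl⟩
  have h : (X j : MvPolynomial (Fin (n + 1)) L) = C (↑(w j)⁻¹ : L) * subst φ w (X j) := by
    show X j = C (↑(w j)⁻¹ : L) * substHom φ w (X j)
    rw [substHom_X, ← mul_assoc, ← C_mul, Units.inv_mul, C_1, one_mul]
  rw [SetLike.mem_coe, h]
  exact Ideal.mul_mem_left _ _ (Ideal.mem_map_of_mem _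
    (HomogeneousIdeal.mem_irrelevant_of_mem _ one_pos (isHomogeneous_X K j)))

/-- The morphism of projective spaces. -/
def substMap : CohB1.ProjSpace n L ⟶ CohB1.ProjSpace n K := Proj.map (subst φ w) (irrelevant_le φ w)

theorem preimage_chart (i : Fin (n + 1)) : substMap φ w ⁻¹ᵁ LefPen.chart n K i = LefPen.chart n L i := by
  show Proj.basicOpen _ (substHom φ w (X i)) = _
  rw [substHom_X, Proj.basicOpen_mul]
  refine inf_eq_right.2 fun x _ hx => x.isPrime.ne_top (Ideal.eq_top_of_isUnit_mem _ hx ((w i).isUnit.map C))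

theorem isAffineOpen_chart (F : Type u) [Field F] (i : Fin (n + 1)) : IsAffineOpen (LefPen.chart n F i) :=
  Proj.isAffineOpen_basicOpen _ _ (ProjMap.X_mem i) one_pos

theorem iSup_chart (F : Type u) [Field F] : (⨆ i, LefPen.chart n F i) = ⊤ := AmpleEmb.iSup_stdOpen n F

theorem hypIdeal_chart {F : Type u} [Field F] (G : LefPen.Form n F d) (hG : G ≠ 0) (i : Fin (n + 1)) :
    (LefPen.hypIdeal G).ideal ⟨LefPen.chart n F i, isAffineOpen_chart F i⟩ = Ideal.span {LefPen.dehom G i} := by
  rw [HypSurfLib.hypIdeal_ideal G hG, HypSurfLib.imageOn_eq_span _ (HypSurfLib.gen_chartGen i d),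
    HypSurfLib.mulG_chartGen]

theorem awayToSection_val {F : Type u} [Field F] (i : Fin (n + 1))
    (z : Away (CohB1.polyGrading n F) (X i : MvPolynomial (Fin (n + 1)) F)) (x : LefPen.chart n F i) :
    (((Proj.awayToSection (CohB1.polyGrading n F) (X i)).hom z : Γ(CohB1.ProjSpace n F, LefPen.chart n F i)).1 x).val =
      IsLocalization.map (S := Localization.Away (X i : MvPolynomial (Fin (n + 1)) F))
        (Localization.AtPrime x.1.asHomogeneousIdeal.toIdeal) (RingHom.id _)
        (show Submonoid.powers (X i : MvPolynomial (Fin (n + 1)) F) ≤ Submonoid.comap (RingHom.id _) x.1.asHomogeneousIdeal.toIdeal.primeCompl from Submonoid.powers_le.2 x.2) z.val := by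
  erw [ProjectiveSpectrum.Proj.awayToSection_apply]

theorem dehom_val {F : Type u} [Field F] (G : LefPen.Form n F d) (i : Fin (n + 1)) (x : LefPen.chart n F i) :
    ((LefPen.dehom G i).1 x).val = (Localization.mk G.1 ⟨(X i : MvPolynomial (Fin (n + 1)) F) ^ d,
      fun h => x.2 (x.1.isPrime.mem_of_pow_mem d h)⟩ : Localization.AtPrime x.1.asHomogeneousIdeal.toIdeal) := by
  refine (awayToSection_val i _ x).trans ?_
  rw [HomogeneousLocalization.Away.val_mk, Localization.mk_eq_mk', Localization.mk_eq_mk', IsLocalization.map_mk']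
  rfl

/-- The constant `wᵢ^d` on a chart. -/
def unitSect (d : ℕ) (i : Fin (n + 1)) : Γ(CohB1.ProjSpace n L, LefPen.chart n L i) :=
  Proj.awayToSection (CohB1.polyGrading n L) (X i) (PicProjLib.constAway n L i ((w i : L) ^ d))

theorem unitSect_val (d : ℕ) (i : Fin (n + 1)) (x : LefPen.chart n L i) :
    ((unitSect w d i).1 x).val = (Localization.mk (C ((w i : L) ^ d)) 1 :
      Localization.AtPrime x.1.asHomogeneousIdeal.toIdeal) := by
  refine (awayToSection_val i _ x).trans ?_
  show IsLocalization.map _ _ _ (Localization.mk _ _) = _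
  rw [Localization.mk_eq_mk', Localization.mk_eq_mk', IsLocalization.map_mk']
  congr 1

theorem app_dehom (G : LefPen.Form n K d) (i : Fin (n + 1)) :
    unitSect w d i * (substMap φ w).appLE (LefPen.chart n K i) (LefPen.chart n L i) (preimage_chart φ w i).ge
        (LefPen.dehom G i) =
      LefPen.dehom (substForm φ w G) i := by
  refine Subtype.ext (funext fun x => HomogeneousLocalization.val_injective _ ?_)
  rw [dehom_val]
  refine (HomogeneousLocalization.val_mul ((unitSect w d i).1 x) _).trans ?_
  rw [unitSect_val]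
  have hy : ((substMap φ w).base x.1) ∈ LefPen.chart n K i := (preimage_chart φ w i).ge x.2
  have h2 : HomogeneousLocalization.val (((substMap φ w).appLE (LefPen.chart n K i) (LefPen.chart n L i)
      (preimage_chart φ w i).ge (LefPen.dehom G i)).1 x) =
      Localization.localRingHom _ x.1.asHomogeneousIdeal.toIdeal (subst φ w).toRingHom rfl
        (((LefPen.dehom G i).1 ⟨(substMap φ w).base x.1, hy⟩).val) :=
    HomogeneousLocalization.val_localRingHom ..
  refine (congrArg (_ * ·) (h2.trans (congrArg _ (dehom_val G i ⟨(substMap φ w).base x.1, hy⟩)))).trans ?_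
  rw [Localization.localRingHom_mk, Localization.mk_mul, Localization.mk_eq_mk_iff, Localization.r_iff_exists]
  refine ⟨1, ?_⟩
  simp only [OneMemClass.coe_one, one_mul]
  show (X i : MvPolynomial (Fin (n + 1)) L) ^ d * (C ((w i : L) ^ d) * substHom φ w G.1) =
    substHom φ w (X i ^ d) * substHom φ w G.1
  rw [map_pow (substHom φ w), substHom_X, mul_pow, C_pow]
  ring

theorem comap_hypIdeal (G : LefPen.Form n K d) (hG : G ≠ 0) (hG' : substForm φ w G ≠ 0) :
    (LefPen.hypIdeal G).comap (substMap φ w) = LefPen.hypIdeal (substForm φ w G) := by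
  refine Scheme.IdealSheafData.ext_of_iSup_eq_top
    (fun i : Fin (n + 1) => ⟨LefPen.chart n L i, isAffineOpen_chart L i⟩) (iSup_chart L) fun i => ?_
  have hu : IsUnit (unitSect w d i) :=
    ((((w i).isUnit.pow d).map (PicProjLib.constAway n L i))).map
      (Proj.awayToSection (CohB1.polyGrading n L) (X i)).hom
  rw [IdealStalkLib.comap_ideal _ _ (isAffineOpen_chart K i) _ (preimage_chart φ w i).ge, hypIdeal_chart G hG,
    hypIdeal_chart _ hG', Ideal.map_span, Set.image_singleton, ← app_dehom φ w G i]
  exact (Ideal.span_singleton_mul_left_unit hu _).symm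

/-- The twisted hypersurface is the base change of the hypersurface. -/
theorem exists_isPullback (G : LefPen.Form n K d) (hG : G ≠ 0) (hG' : substForm φ w G ≠ 0) :
    ∃ q : (LefPen.hypIdeal (substForm φ w G)).subscheme ⟶ (LefPen.hypIdeal G).subscheme,
      IsPullback (LefPen.hypIdeal (substForm φ w G)).subschemeι q (substMap φ w) (LefPen.hypIdeal G).subschemeι := by
  rw [← comap_hypIdeal φ w G hG hG']
  refine ⟨(Scheme.IdealSheafData.comapIso _ _).hom ≫ pullback.snd _ _, ?_⟩
  exact IsPullback.of_iso_pullback ⟨by rw [Category.assoc, ← pullback.condition, ← Category.assoc, Scheme.IdealSheafData.comapIso_hom_fst]⟩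
    (Scheme.IdealSheafData.comapIso _ _) (Scheme.IdealSheafData.comapIso_hom_fst _ _) rfl

end Groth.Agent.PlaneTwistLib
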