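import Groth.Agent.PlaneTwistLib.Smooth

/-!
# Plane twists: smooth hypersurfaces have no common zero with their partials
-/

set_option autoImplicit false
set_option backward.isDefEq.respectTransparency false
set_option backward.isDefEq.respectTransparency.types false
set_option linter.style.haveILetI false
set_option maxHeartbeats 800000

universe u

open CategoryTheory CategoryTheory.Limits AlgebraicGeometry TopologicalSpace Opposite MvPolynomial
open KaehlerDifferential

noncomputable section

namespace Groth.Agent.PlaneTwistLib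

theorem not_singular_of_formallySmooth {F : Type u} [Field F] {n : ℕ} {S : Type u} [CommRing S]
    [Algebra F S] [Algebra (MvPolynomial (Fin n) F) S] [IsScalarTower F (MvPolynomial (Fin n) F) S]
    [Algebra.FormallySmooth F S] (hsurj : Function.Surjective (algebraMap (MvPolynomial (Fin n) F) S))
    (f : MvPolynomial (Fin n) F) (hf : RingHom.ker (algebraMap (MvPolynomial (Fin n) F) S) = Ideal.span {f})
    (hf0 : f ≠ 0) {Ω : Type u} [Field Ω] [Algebra F Ω] (v : Fin n → Ω) (hv : aeval v f = 0) :
    ∃ i, aeval v (pderiv i f) ≠ 0 := by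
  classical
  by_contra hall
  push Not at hall
  let P := MvPolynomial (Fin n) F
  let I := RingHom.ker (algebraMap P S)
  obtain ⟨l, hl⟩ : ∃ l : TensorProduct P S Ω[P⁄F] →ₗ[P] I.Cotangent, l ∘ₗ kerCotangentToTensor F P S = LinearMap.id :=
    (Algebra.FormallySmooth.iff_split_injection (R := F) hsurj).1 inferInstance
  replace hf : I = Ideal.span {f} := hf
  have hfI : f ∈ I := hf ▸ Ideal.mem_span_singleton_self f
  have hcl : l (1 ⊗ₜ[P] D F P f) = I.toCotangent ⟨f, hfI⟩ := by
    have := LinearMap.congr_fun hl (I.toCotangent ⟨f, hfI⟩)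
    rw [LinearMap.comp_apply, kerCotangentToTensor_toCotangent, LinearMap.id_apply] at this
    exact this
  have hg : ∀ i, ∃ g : P, l (1 ⊗ₜ[P] D F P (X i)) = g • I.toCotangent ⟨f, hfI⟩ := fun i => by
    obtain ⟨⟨x, hx⟩, h⟩ := I.toCotangent_surjective (l (1 ⊗ₜ[P] D F P (X i)))
    obtain ⟨g, rfl⟩ := Ideal.mem_span_singleton'.1 (show x ∈ Ideal.span {f} from hf ▸ hx)
    exact ⟨g, by rw [← h, ← map_smul]; rfl⟩
  choose g hg using hg
  have hD : D F P f = ∑ i, pderiv i f • D F P (X i) := by
    conv_lhs => rw [← (mvPolynomialBasis F (Fin n)).sum_repr (D F P f)]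
    simp only [mvPolynomialBasis_apply]
    refine Finset.sum_congr rfl fun i _ => congrArg (· • _) ?_
    exact mvPolynomialBasis_repr_apply ..
  rw [hD, TensorProduct.tmul_sum, map_sum] at hcl
  simp only [TensorProduct.tmul_smul, map_smul, hg, smul_smul, ← Finset.sum_smul] at hcl
  rw [← map_smul, Ideal.toCotangent_eq] at hcl
  have hmem : (∑ i, pderiv i f * g i) * f - f ∈ (Ideal.span {f}) ^ 2 := by rw [← hf]; exact hcl
  rw [Ideal.span_singleton_pow, Ideal.mem_span_singleton'] at hmem
  obtain ⟨q, hq⟩ := hmem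
  have h1 : (∑ i, pderiv i f * g i) - 1 = q * f := mul_right_cancel₀ hf0 (by linear_combination -hq)
  have h2 := congrArg (aeval v) h1
  simp [map_sum, hall, hv] at h2

variable {n d : ℕ} {F : Type u} [Field F]

/-- A smooth hypersurface has no singular zero in a chart. -/
theorem not_singular_of_smooth (G : LefPen.Form n F d) (hG : G ≠ 0)
    (h : Smooth ((LefPen.hypIdeal G).subschemeι ≫ CohB1.ProjSpace.toSpec n F)) (i : Fin (n + 1))
    (hf0 : chartEqn G i ≠ 0) {Ω : Type u} [Field Ω] [Algebra F Ω] (v : Fin n → Ω) (hv : aeval v (chartEqn G i) = 0) :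
    ∃ j, aeval v (pderiv j (chartEqn G i)) ≠ 0 := by
  set f := (LefPen.hypIdeal G).subschemeι ≫ CohB1.ProjSpace.toSpec n F with hfdef
  obtain ⟨π, hπ, hker, hC⟩ := exists_chartMap G hG i
  have hs := f.smooth_appLE (isAffineOpen_top _) (isAffineOpen_hypChart G i) (V := hypChart G i) le_top
  letI : Algebra (MvPolynomial (Fin n) F) Γ((LefPen.hypIdeal G).subscheme, hypChart G i) := π.toAlgebra
  letI : Algebra F Γ((LefPen.hypIdeal G).subscheme, hypChart G i) :=
    (π.comp (algebraMap F (MvPolynomial (Fin n) F))).toAlgebra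
  haveI : IsScalarTower F (MvPolynomial (Fin n) F) Γ((LefPen.hypIdeal G).subscheme, hypChart G i) :=
    IsScalarTower.of_algebraMap_eq fun _ => rfl
  have hsm : RingHom.Smooth (algebraMap F Γ((LefPen.hypIdeal G).subscheme, hypChart G i)) := by
    have h2 := (RingHom.Smooth.of_bijective
      (ConcreteCategory.bijective_of_isIso (Scheme.ΓSpecIso (CommRingCat.of F)).inv)).comp hs
    convert h2 using 1
    exact RingHom.ext fun r => hC r
  haveI := (RingHom.smooth_algebraMap.1 hsm).formallySmooth
  exact not_singular_of_formallySmooth hπ _ hker hf0 v hv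

end Groth.Agent.PlaneTwistLib
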