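import Groth.Agent.PlaneTwistLib.Smooth
import Groth.Agent.CurveFF.PlaneCurve
import Groth.Agent.ShBCLib.Finrank
import Groth.Agent.DegDevLib.BC
import Groth.Agent.CohBase.Affine
import Groth.Prelude.Def_ModFun

/-!
# The cubic family `x³ + t y³ + t² z³ + c t x y z`
-/

set_option autoImplicit false
set_option backward.isDefEq.respectTransparency false
set_option backward.isDefEq.respectTransparency.types false
set_option linter.style.haveILetI false
set_option maxHeartbeats 1600000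

universe u

open CategoryTheory CategoryTheory.Limits AlgebraicGeometry TopologicalSpace Opposite MvPolynomial HomogeneousLocalization

noncomputable section

namespace Groth.Agent.PlaneTwistLib

theorem subst_comp {n : ℕ} {K L M : Type u} [Field K] [Field L] [Field M] (φ : K →+* L) (ψ : L →+* M)
    (w : Fin (n + 1) → Lˣ) (v : Fin (n + 1) → Mˣ) :
    (subst ψ v).comp (subst φ w) = subst (ψ.comp φ) fun i => Units.map ψ.toMonoidHom (w i) * v i := by
  refine DFunLike.ext _ _ fun p => ?_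
  show substHom ψ v (substHom φ w p) = substHom _ _ p
  refine DFunLike.congr_fun (MvPolynomial.ringHom_ext
    (f := (substHom ψ v).comp (substHom φ w))
    (g := substHom (ψ.comp φ) fun i => Units.map ψ.toMonoidHom (w i) * v i) (fun r => ?_) fun i => ?_) p
  · simp [substHom_C]
  · simp [substHom_X, substHom_C, mul_assoc]

theorem subst_id_one {n : ℕ} {K : Type u} [Field K] :
    subst (n := n) (RingHom.id K) (fun _ => 1) = GradedRingHom.id (CohB1.polyGrading n K) := by
  refine DFunLike.ext _ _ fun p => ?_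
  show substHom _ _ p = p
  refine DFunLike.congr_fun (MvPolynomial.ringHom_ext (g := RingHom.id _) (fun r => ?_) fun i => ?_) p
  · simp [substHom_C]
  · simp [substHom_X]

theorem map_congr {n : ℕ} {K L : Type u} [Field K] [Field L] {f g : CohB1.polyGrading n K →+*ᵍ CohB1.polyGrading n L}
    (h : f = g) (hf hg) : Proj.map f hf = Proj.map g hg := by subst h; rfl

theorem substMap_comp {n : ℕ} {K L M : Type u} [Field K] [Field L] [Field M] (φ : K →+* L) (ψ : L →+* M)
    (w : Fin (n + 1) → Lˣ) (v : Fin (n + 1) → Mˣ) :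
    substMap ψ v ≫ substMap φ w = substMap (ψ.comp φ) fun i => Units.map ψ.toMonoidHom (w i) * v i :=
  (Proj.map_comp _ _ _ _).symm.trans (map_congr (subst_comp φ ψ w v) _ _)

theorem substMap_id_one {n : ℕ} {K : Type u} [Field K] : substMap (n := n) (RingHom.id K) (fun _ => 1) = 𝟙 _ :=
  (map_congr subst_id_one _ (by simp)).trans Proj.map_id

theorem isIso_substMap_id {n : ℕ} {K : Type u} [Field K] (w : Fin (n + 1) → Kˣ) :
    IsIso (substMap (RingHom.id K) w) := by
  refine ⟨substMap (RingHom.id K) w⁻¹, ?_, ?_⟩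
  · rw [substMap_comp, ← substMap_id_one]
    congr 1
    funext i; ext; simp
  · rw [substMap_comp, ← substMap_id_one]
    congr 1
    funext i; ext; simp

theorem awayι_str {n : ℕ} {K : Type u} [Field K] {m : ℕ} (g : MvPolynomial (Fin (n + 1)) K)
    (hg : g ∈ CohB1.polyGrading n K m) (hm : 0 < m) :
    Proj.awayι (CohB1.polyGrading n K) g hg hm ≫ CohB1.ProjSpace.toSpec n K =
      Spec.map (CommRingCat.ofHom (ProjBC.sA (CohB1.polyGrading n K) g)) := by
  unfold CohB1.ProjSpace.toSpec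
  erw [Proj.awayι_toSpecZero_assoc]
  rw [← Spec.map_comp]
  rfl

theorem map_sA_subst {n : ℕ} {K L : Type u} [Field K] [Field L] (φ : K →+* L) (w : Fin (n + 1) → Lˣ)
    (g : MvPolynomial (Fin (n + 1)) K) (r : K) :
    HomogeneousLocalization.Away.map (subst φ w) g (ProjBC.sA (CohB1.polyGrading n K) g r) =
      ProjBC.sA (CohB1.polyGrading n L) (subst φ w g) (φ r) := by
  ext
  rw [ProjBC.val_sA]
  show (HomogeneousLocalization.map (subst φ w) _ (HomogeneousLocalization.mk _)).val = _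
  rw [HomogeneousLocalization.map_mk, HomogeneousLocalization.val_mk]
  congr 1
  · exact substHom_C φ w r
  · exact Subtype.ext (map_one (subst φ w).toRingHom)

theorem substMap_toSpec {n : ℕ} {K L : Type u} [Field K] [Field L] (φ : K →+* L) (w : Fin (n + 1) → Lˣ) :
    substMap φ w ≫ CohB1.ProjSpace.toSpec n K = CohB1.ProjSpace.toSpec n L ≫ Spec.map (CommRingCat.ofHom φ) := by
  refine (Proj.mapAffineOpenCover (subst φ w) (irrelevant_le φ w)).openCover.hom_ext _ _ fun i => ?_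
  simp only [Scheme.AffineOpenCover.openCover_f, Proj.mapAffineOpenCover_f, substMap]
  rw [Proj.awayι_comp_map_assoc _ _ i.1.2 _ i.2.2, awayι_str _ i.2.2 i.1.2]
  erw [reassoc_of% (awayι_str (subst φ w i.2.1) ((subst φ w).map_mem i.2.2) i.1.2)]
  rw [← Spec.map_comp, ← Spec.map_comp]
  exact congrArg Spec.map (CommRingCat.hom_ext (RingHom.ext fun r => map_sA_subst φ w i.2.1 r))

theorem isPullback_substMap {n : ℕ} {K L : Type u} [Field K] [Field L] (φ : K →+* L) (w : Fin (n + 1) → Lˣ) :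
    IsPullback (substMap φ w) (CohB1.ProjSpace.toSpec n L) (CohB1.ProjSpace.toSpec n K)
      (Spec.map (CommRingCat.ofHom φ)) := by
  letI : Algebra K L := φ.toAlgebra
  have hb : GenSeesawLib.bcMap n K L = substMap φ fun _ => 1 := by
    refine map_congr (DFunLike.ext _ _ fun p => ?_) _ _
    show MvPolynomial.map φ p = substHom φ (fun _ => 1) p
    refine DFunLike.congr_fun (MvPolynomial.ringHom_ext (fun r => ?_) fun i => ?_) p
    · simp [substHom_C]
    · simp [substHom_X]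
  haveI := isIso_substMap_id (K := L) w
  have h : substMap φ w = substMap (RingHom.id L) w ≫ GenSeesawLib.bcMap n K L := by
    rw [hb, substMap_comp]
    congr 1
    funext i; ext; simp
  refine (GenSeesawLib.isPullback_bcMap n K L).of_iso (asIso (substMap (RingHom.id L) w)).symm
    (Iso.refl _) (Iso.refl _) (Iso.refl _) ?_ ?_ (by simp) ?_
  · rw [Iso.refl_hom, Category.comp_id, h]
    exact ((asIso (substMap (RingHom.id L) w)).inv_hom_id_assoc _).symm
  · rw [Iso.refl_hom, Category.comp_id, Iso.symm_hom, asIso_inv, eq_comm, IsIso.inv_comp_eq,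
      substMap_toSpec, CommRingCat.ofHom_id, Spec.map_id, Category.comp_id]
  · simp [RingHom.algebraMap_toAlgebra]

theorem exists_isPullback_str {n d : ℕ} {K L : Type u} [Field K] [Field L] (φ : K →+* L) (w : Fin (n + 1) → Lˣ)
    (G : LefPen.Form n K d) (hG : G ≠ 0) (H : LefPen.Form n L d) (hH : H ≠ 0) (h : substForm φ w G = H) :
    ∃ q : (LefPen.hypIdeal H).subscheme ⟶ (LefPen.hypIdeal G).subscheme,
      IsPullback q ((LefPen.hypIdeal H).subschemeι ≫ CohB1.ProjSpace.toSpec n L)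
        ((LefPen.hypIdeal G).subschemeι ≫ CohB1.ProjSpace.toSpec n K) (Spec.map (CommRingCat.ofHom φ)) := by
  subst h
  obtain ⟨q, hq⟩ := exists_isPullback φ w G hG hH
  exact ⟨q, hq.flip.paste_vert (isPullback_substMap φ w)⟩

section Cubic

variable {F : Type u} [Field F]

/-- The cubic `x³ + t y³ + t² z³ + c t x y z`. -/
def cubic (t c : F) : LefPen.Form 2 F 3 :=
  ⟨X 0 ^ 3 + C t * X 1 ^ 3 + C (t ^ 2) * X 2 ^ 3 + C (c * t) * (X 0 * X 1 * X 2), by
    refine ((MvPolynomial.IsHomogeneous.add (MvPolynomial.IsHomogeneous.add ?_ ?_) ?_).add ?_)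
    · exact (isHomogeneous_X F 0).pow 3
    · exact ((isHomogeneous_X F 1).pow 3).C_mul _
    · exact ((isHomogeneous_X F 2).pow 3).C_mul _
    · exact (((isHomogeneous_X F 0).mul (isHomogeneous_X F 1)).mul (isHomogeneous_X F 2)).C_mul _⟩

theorem eval_cubic (t c : F) (v : Fin (2 + 1) → F) :
    eval v (cubic t c).1 = v 0 ^ 3 + t * v 1 ^ 3 + t ^ 2 * v 2 ^ 3 + c * t * (v 0 * v 1 * v 2) := by
  simp [cubic]

theorem cubic_ne_zero (t c : F) : cubic t c ≠ 0 := fun h => by
  have h1 := congrArg (fun G : LefPen.Form 2 F 3 => eval ![1, 0, 0] G.1) h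
  simp [eval_cubic] at h1

theorem substForm_cubic {L : Type u} [Field L] (φ : F →+* L) (w : Fin (2 + 1) → Lˣ) (t c : F) (hw0 : w 0 = 1)
    (t' : L) (h1 : φ t * (w 1 : L) ^ 3 = t') (h2 : φ t ^ 2 * (w 2 : L) ^ 3 = t' ^ 2)
    (h12 : φ t * (w 1 : L) * (w 2 : L) = t') :
    substForm φ w (cubic t c) = cubic t' (φ c) := by
  refine Subtype.ext ?_
  show substHom φ w _ = _
  have e1 : C (φ t) * C (w 1 : L) ^ 3 = (C t' : MvPolynomial (Fin (2 + 1)) L) := by rw [← C_pow, ← C_mul, h1]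
  have e2 : C (φ t) ^ 2 * C (w 2 : L) ^ 3 = (C t' ^ 2 : MvPolynomial (Fin (2 + 1)) L) := by
    rw [← C_pow, ← C_pow, ← C_mul, h2, C_pow]
  have e12 : C (φ t) * C (w 1 : L) * C (w 2 : L) = (C t' : MvPolynomial (Fin (2 + 1)) L) := by
    rw [← C_mul, ← C_mul, h12]
  simp only [cubic, map_add, map_mul, map_pow, substHom_X, substHom_C, hw0, Units.val_one, C_1, one_mul, mul_pow]
  linear_combination X 1 ^ 3 * e1 + X 2 ^ 3 * e2 + C (φ c) * (X 0 * X 1 * X 2) * e12

theorem chartEqn_cubic (t c : F) (i : Fin (2 + 1)) :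
    chartEqn (cubic t c) i = PicProjLib.dehomVec 2 F i 0 ^ 3 + C t * PicProjLib.dehomVec 2 F i 1 ^ 3 +
      C (t ^ 2) * PicProjLib.dehomVec 2 F i 2 ^ 3 + C (c * t) *
        (PicProjLib.dehomVec 2 F i 0 * PicProjLib.dehomVec 2 F i 1 * PicProjLib.dehomVec 2 F i 2) := by
  simp [chartEqn, cubic]

/-- The parameter is `0` away from characteristic three and `1` in characteristic three. -/
def Good (c : F) : Prop := (c = 0 ∧ (3 : F) ≠ 0) ∨ (c = 1 ∧ (3 : F) = 0)

theorem dehomVec_two (i : Fin (2 + 1)) :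
    PicProjLib.dehomVec 2 F i = ![![1, X 0, X 1], ![X 0, 1, X 1], ![X 0, X 1, 1]] i := by
  funext j
  fin_cases i <;> fin_cases j <;> rfl

theorem chartEqn_zero (t c : F) : chartEqn (cubic t c) 0 =
    1 + C t * X 0 ^ 3 + C t ^ 2 * X 1 ^ 3 + C c * C t * (X 0 * X 1) := by
  rw [chartEqn_cubic, dehomVec_two]
  simp [mul_assoc]

theorem chartEqn_one (t c : F) : chartEqn (cubic t c) 1 =
    X 0 ^ 3 + C t + C t ^ 2 * X 1 ^ 3 + C c * C t * (X 0 * X 1) := by
  rw [chartEqn_cubic, dehomVec_two]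
  simp [mul_assoc]

theorem chartEqn_two (t c : F) : chartEqn (cubic t c) 2 =
    X 0 ^ 3 + C t * X 1 ^ 3 + C t ^ 2 + C c * C t * (X 0 * X 1) := by
  rw [chartEqn_cubic, dehomVec_two]
  simp [mul_assoc]

theorem exists_derivation {f : MvPolynomial (Fin 2) F} (a₀ a₁ : MvPolynomial (Fin 2) F) (b : MvPolynomial (Fin 2) F)
    (h : a₀ * pderiv 0 f + a₁ * pderiv 1 f - 1 = b * f) :
    ∃ δ : Derivation F (MvPolynomial (Fin 2) F) (MvPolynomial (Fin 2) F), δ f - 1 ∈ Ideal.span {f} :=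
  ⟨a₀ • pderiv 0 + a₁ • pderiv 1, Ideal.mem_span_singleton'.2 ⟨b, by
    rw [← h]; simp only [Derivation.add_apply, Derivation.smul_apply, smul_eq_mul]⟩⟩

theorem smooth_cubic {t c : F} (ht : t ≠ 0) (hc : Good c) :
    Smooth ((LefPen.hypIdeal (cubic t c)).subschemeι ≫ CohB1.ProjSpace.toSpec 2 F) := by
  refine smooth_of_derivation _ (cubic_ne_zero t c) fun i => ?_
  obtain ⟨T, hT⟩ : ∃ T : MvPolynomial (Fin 2) F, T * C t = 1 :=
    ⟨C t⁻¹, by rw [← C_mul, inv_mul_cancel₀ ht, C_1]⟩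
  rcases hc with ⟨rfl, h3⟩ | ⟨rfl, h3⟩
  · obtain ⟨H, hH⟩ : ∃ H : MvPolynomial (Fin 2) F, H * 3 = 1 :=
      ⟨C (3 : F)⁻¹, by rw [← map_ofNat (C (σ := Fin 2) (R := F)) 3, ← C_mul, inv_mul_cancel₀ h3, C_1]⟩
    match i with
    | 0 =>
      rw [chartEqn_zero]
      refine exists_derivation (-(H * X 0)) (-(H * X 1)) (-1) ?_
      simp [pderiv_X_self, pderiv_X_of_ne]
      linear_combination -(C t * X 0 ^ 3 + C t ^ 2 * X 1 ^ 3) * hH
    | 1 =>
      rw [chartEqn_one]
      refine exists_derivation (-(H * T * X 0)) (-(H * T * X 1)) (-T) ?_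
      simp [pderiv_X_self, pderiv_X_of_ne]
      linear_combination -(T * (X 0 ^ 3 + C t ^ 2 * X 1 ^ 3)) * hH + hT
    | 2 =>
      rw [chartEqn_two]
      refine exists_derivation (-(H * T ^ 2 * X 0)) (-(H * T ^ 2 * X 1)) (-T ^ 2) ?_
      simp [pderiv_X_self, pderiv_X_of_ne]
      linear_combination -(T ^ 2 * (X 0 ^ 3 + C t * X 1 ^ 3)) * hH + (T * C t + 1) * hT
  · have hC3 : (3 : MvPolynomial (Fin 2) F) = 0 := by
      rw [← map_ofNat (C (σ := Fin 2) (R := F)) 3, h3, C_0]
    match i with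
    | 0 =>
      rw [chartEqn_zero]
      refine exists_derivation (-(C t * X 1 ^ 2 + X 0)) (-(X 0 ^ 2)) (-1) ?_
      simp [pderiv_X_self, pderiv_X_of_ne]
      grind
    | 1 =>
      rw [chartEqn_one]
      refine exists_derivation (-(T * (C t * X 1 ^ 2 + X 0))) (-(T ^ 2 * X 0 ^ 2)) (-T) ?_
      simp [pderiv_X_self, pderiv_X_of_ne]
      grind
    | 2 =>
      rw [chartEqn_two]
      refine exists_derivation (-(T ^ 2 * (X 1 ^ 2 + X 0))) (-(T ^ 3 * X 0 ^ 2)) (-T ^ 2) ?_
      simp [pderiv_X_self, pderiv_X_of_ne]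
      grind

theorem isIntegral_cubic {t c : F} (ht : t ≠ 0) (hc : Good c) : IsIntegral (LefPen.hypIdeal (cubic t c)).subscheme := by
  letI : (LefPen.hypIdeal (cubic t c)).subscheme.Over (Spec (CommRingCat.of F)) :=
    ⟨(LefPen.hypIdeal (cubic t c)).subschemeι ≫ CohB1.ProjSpace.toSpec 2 F⟩
  haveI : Smooth ((LefPen.hypIdeal (cubic t c)).subscheme ↘ Spec (CommRingCat.of F)) := smooth_cubic ht hc
  exact CurveFF.PlaneCurve.isIntegral _ (cubic_ne_zero t c) rfl (by norm_num)

theorem dim_cubic {t c : F} (ht : t ≠ 0) (hc : Good c) :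
    topologicalKrullDim (LefPen.hypIdeal (cubic t c)).subscheme = 1 := by
  letI : (LefPen.hypIdeal (cubic t c)).subscheme.Over (Spec (CommRingCat.of F)) :=
    ⟨(LefPen.hypIdeal (cubic t c)).subschemeι ≫ CohB1.ProjSpace.toSpec 2 F⟩
  haveI : Smooth ((LefPen.hypIdeal (cubic t c)).subscheme ↘ Spec (CommRingCat.of F)) := smooth_cubic ht hc
  exact CurveFF.PlaneCurve.dim_eq_one _ (cubic_ne_zero t c) rfl (by norm_num)

theorem good_map {L : Type u} [Field L] (φ : F →+* L) {c : F} (hc : Good c) : Good (φ c) := by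
  rcases hc with ⟨rfl, h3⟩ | ⟨rfl, h3⟩
  · exact Or.inl ⟨map_zero φ, by rw [← map_ofNat φ 3]; exact (map_ne_zero φ).2 h3⟩
  · exact Or.inr ⟨map_one φ, by rw [← map_ofNat φ 3, h3, map_zero]⟩

theorem exists_isPullback_cubic {L : Type u} [Field L] (φ : F →+* L) (t c : F) :
    ∃ q : (LefPen.hypIdeal (cubic (φ t) (φ c))).subscheme ⟶ (LefPen.hypIdeal (cubic t c)).subscheme,
      IsPullback q ((LefPen.hypIdeal (cubic (φ t) (φ c))).subschemeι ≫ CohB1.ProjSpace.toSpec 2 L)
        ((LefPen.hypIdeal (cubic t c)).subschemeι ≫ CohB1.ProjSpace.toSpec 2 F) (Spec.map (CommRingCat.ofHom φ)) :=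
  exists_isPullback_str φ (fun _ => 1) _ (cubic_ne_zero t c) _ (cubic_ne_zero _ _)
    (substForm_cubic φ _ t c rfl _ (by simp) (by simp) (by simp))

theorem isCurveOfGenus_cubic {t c : F} (ht : t ≠ 0) (hc : Good c) :
    ModFun.IsCurveOfGenus 1 ((LefPen.hypIdeal (cubic t c)).subschemeι ≫ CohB1.ProjSpace.toSpec 2 F) := by
  letI iC : (LefPen.hypIdeal (cubic t c)).subscheme.Over (Spec (CommRingCat.of F)) :=
    ⟨(LefPen.hypIdeal (cubic t c)).subschemeι ≫ CohB1.ProjSpace.toSpec 2 F⟩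
  haveI : IsProper ((LefPen.hypIdeal (cubic t c)).subscheme ↘ Spec (CommRingCat.of F)) :=
    CurveFF.PlaneCurve.isProper (cubic t c) rfl
  refine ⟨smooth_cubic ht hc, ‹_›, ⟨fun L _ y T fst snd h => ?_⟩, ?_⟩
  · obtain ⟨ψ, rfl⟩ : ∃ ψ, Spec.map ψ = y := ⟨Spec.preimage y, Spec.map_preimage y⟩
    obtain ⟨q, hq⟩ := exists_isPullback_cubic ψ.hom t c
    haveI := isIntegral_cubic (t := ψ.hom t) ((map_ne_zero _).2 ht) (good_map ψ.hom hc)
    let e := (h.isoIsPullback _ _ hq).hom.homeomorph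
    exact e.symm.surjective.irreducibleSpace e.symm.continuous
  · intro Ω _ _ y T fst snd h
    obtain ⟨ψ, rfl⟩ : ∃ ψ, Spec.map ψ = y := ⟨Spec.preimage y, Spec.map_preimage y⟩
    obtain ⟨q, hq⟩ := exists_isPullback_cubic ψ.hom t c
    refine ⟨?_, ?_⟩
    · rw [← dim_cubic (t := ψ.hom t) ((map_ne_zero _).2 ht) (good_map ψ.hom hc)]
      exact (h.isoIsPullback _ _ hq).hom.homeomorph.isHomeomorph.topologicalKrullDim_eq
    · letI iT : T.Over (Spec (CommRingCat.of Ω)) := ⟨snd⟩
      letI : Algebra F Ω := ψ.hom.toAlgebra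
      haveI := EulerIneqLib.isNoetherian_proper (X := (LefPen.hypIdeal (cubic t c)).subscheme) F
      haveI : Coh.IsQCoh (Coh.structureModule (LefPen.hypIdeal (cubic t c)).subscheme) := CohBase.isQCoh_structureModule
      obtain ⟨e⟩ := S0034.result F Ω (LefPen.hypIdeal (cubic t c)).subscheme T fst h
        (Coh.structureModule (LefPen.hypIdeal (cubic t c)).subscheme) 1
      show Module.finrank Ω _ = 1
      haveI : Module.Free F (Coh.HH (LefPen.hypIdeal (cubic t c)).subscheme (Coh.structureModule (LefPen.hypIdeal (cubic t c)).subscheme) 1) := @Module.Free.of_divisionRing _ _ _ _ _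
      rw [← ShBCLib.finrank_HH_iso (DCohLib.pullStructureIso fst) 1, ← e.finrank_eq, Module.finrank_baseChange,
        show (1 : ℕ) = 2 - 1 from rfl, HypSurfLib.finrank_top (cubic t c) (cubic_ne_zero t c) rfl (by norm_num) le_rfl]
      rfl

end Cubic

end Groth.Agent.PlaneTwistLib
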